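import Groth.Agent.VBCurve.K658.NoSec
import Groth.Agent.S7638
import Groth.Agent.S15827
import Groth.Agent.Krr.H495.ExtExist
import Groth.Agent.VBCurve.K703.TwSS

/-!
# From semistable to stable bundles with sections in all twists of degree `g - 1`
-/

set_option autoImplicit false
universe u
open CategoryTheory CategoryTheory.Limits AlgebraicGeometry TopologicalSpace Opposite IsLocalRing

namespace K658.Stable

open Groth.Agent MonoidalCategory K707.Base K707.Deg K707.Slope K707.Semi K704.Pt K704.Eval K704.HomK K658.EvGen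
open K707.TensL K319 K319.PicCD Groth.Agent.Grpsch.PicGrp K658.NoSec
open Groth.Agent.Dix.PointIdeal Groth.Agent.VarietyA.DegRank
open scoped Groth.Agent.Dcoh.MonCat

variable (k : Type u) [Field k] {X : Scheme.{u}} [X.Over (Spec (CommRingCat.of k))]
  [IsIntegral X] [IsProper (X ↘ Spec (CommRingCat.of k))] [Smooth (X ↘ Spec (CommRingCat.of k))]
  [IsAlgClosed k] (hdim : topologicalKrullDim X = 1)

/-- Semistable bundles of degree zero and positive rank all of whose twists of degree `g - 1` have sections. -/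
structure Good (E : X.Modules) : Prop where
  vb : FlatMod.IsFinLocFree E
  pos : 0 < rk E
  dg : dg k E = 0
  ss : SS k E
  sec : HasSec k hdim E

variable {k}

include hdim

/-- A good bundle has rank at least two. -/
theorem Good.two_le {E : X.Modules} (h : Good k hdim E) : 2 ≤ rk E := by
  by_contra hlt
  have h1 : rk E = 1 := by have := h.pos; omega
  have hr := isFinLocFreeOfRank_rk h.vb
  rw [h1] at hr
  have hE : PicF.IsInvertible E := rank_one_iff.mp hr
  obtain ⟨c, hc, hc'⟩ := AbsIrr.exists_noneff (Cd k hdim)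
  refine h.sec (c - Additive.ofMul (Grpsch.PicGrp.mk E hE)) ?_ ?_
  · rw [map_sub, hc, deg_cls, h.dg, sub_zero]
  · intro N hN hN' s
    by_contra hs
    have hEN := Fdesc.LocGen.isInvertible_tensorMod hE hN
    have h2 : Additive.ofMul (Grpsch.PicGrp.mk _ hEN) = c := by
      rw [← mk_mul_mk hE hN, ofMul_mul, hN']
      abel
    exact (h_cls_ne_zero_iff k hdim hEN).mpr ⟨s, hs⟩ (by rw [h2]; exact hc')

/-- **Among the good bundles those of minimal rank are stable.** -/
theorem exists_stable (h0 : Module.finrank k (Coh.HH X (Coh.structureModule X) 0) = 1) {E₀ : X.Modules}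
    (h : Good k hdim E₀) : ∃ E : X.Modules, Good k hdim E ∧ St k E := by
  classical
  have C : Crv k X := Crv.of_smooth hdim
  let P : ℕ → Prop := fun r => ∃ E : X.Modules, Good k hdim E ∧ rk E = r
  have hP : ∃ r, P r := ⟨_, E₀, h, rfl⟩
  obtain ⟨E, hE, hr⟩ := Nat.find_spec hP
  have hmin : ∀ F : X.Modules, Good k hdim F → rk E ≤ rk F := fun F hF => by
    rw [hr]
    exact Nat.find_min' hP ⟨F, hF, rfl⟩
  refine ⟨E, hE, ?_⟩
  intro F i hi hF hF0 hF1
  rw [hE.dg, zero_mul]
  have hposE : (0 : ℤ) < rk E := by exact_mod_cast hE.pos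
  suffices hs : dg k F < 0 from mul_neg_of_neg_of_pos hs hposE
  by_contra hcon
  obtain ⟨F', Q, a, j, q, w, ha, haj, hS, hF', hQ, e1, e2, e3, e4⟩ :=
    exists_saturation C i (coh_of_vb hF) (coh_of_vb hE.vb)
  have hj : Mono j := hS.mono_f
  have hF'v : FlatMod.IsFinLocFree F' := vb_of_mono C j hF' hE.vb
  have h1 := hE.ss F' j hj hF'v
  rw [hE.dg, zero_mul] at h1
  have h2 : dg k F' ≤ 0 := by
    by_contra hc
    push Not at hc
    have := mul_pos hc hposE
    omega
  have d1 : dg k F' = 0 := by omega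
  have d3 : dg k Q = 0 := by have := hE.dg; omega
  have s1 : SS k F' := K705.Setup.ss_left C (ShortComplex.mk j q w) hS hE.vb hE.pos
    (by change dg k F' * rk E = dg k E * rk F'; rw [d1, hE.dg]; simp) hE.ss
  have s3 : SS k Q := K705.Setup.ss_right C (ShortComplex.mk j q w) hS hE.vb hQ hE.pos
    (by change dg k Q * rk E = dg k E * rk Q; rw [d3, hE.dg]; simp) hE.ss
  have n1 : ¬ HasSec k hdim F' := fun hs => by
    have := hmin F' ⟨hF'v, by omega, d1, s1, hs⟩
    omega
  have n3 : ¬ HasSec k hdim Q := fun hs => by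
    have := hmin Q ⟨hQ, by omega, d3, s3, hs⟩
    omega
  rw [HasSec] at n1 n3
  push Not at n1 n3
  obtain ⟨c₁, hc₁, hn₁⟩ := n1
  obtain ⟨c₃, hc₃, hn₃⟩ := n3
  obtain ⟨c, hc, hcc1, hcc3⟩ := AbsIrr.common (Cd k hdim) (NoSec.gen k hdim h0 hF'v) (NoSec.gen k hdim h0 hQ)
    (hc₃.trans hc₁.symm) hn₁ hn₃
  exact hE.sec c (hc.trans hc₁) (noSec_ext hS hcc1 hcc3)

/-- Adding a semistable summand of degree zero. -/
theorem Good.biprod {E F : X.Modules} (h : Good k hdim E) (hF : FlatMod.IsFinLocFree F) (hpos : 0 < rk F)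
    (hd : K707.Deg.dg k F = 0) (hs : SS k F) : Good k hdim (E ⊞ F) ∧ rk (E ⊞ F) = rk E + rk F := by
  have C : Crv k X := Crv.of_smooth hdim
  have hEr := isFinLocFreeOfRank_rk h.vb
  have hFr := isFinLocFreeOfRank_rk hF
  have hE' := Krr.H495.Rank.rank_biprod hEr hFr
  let S : ShortComplex X.Modules := ShortComplex.mk (biprod.inl : E ⟶ E ⊞ F) (biprod.snd : E ⊞ F ⟶ F) (by simp)
  have hS : S.ShortExact := (ShortComplex.Splitting.ofHasBinaryBiproduct E F).shortExact
  have hr : rk (E ⊞ F) = rk E + rk F := rk_of_rank hE'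
  have hd' : K707.Deg.dg k (E ⊞ F) = 0 := by
    have h1 := dg_add k S hS (coh_of_vb h.vb) (K707.Base.isCoh_of_rank hE') (coh_of_vb hF)
    have h1' : K707.Deg.dg k (E ⊞ F) = K707.Deg.dg k E + K707.Deg.dg k F := h1
    rw [h1', h.dg, hd, add_zero]
  refine ⟨⟨isFinLocFree_of_rank hE', by have := h.pos; omega, hd', ?_, ?_⟩, hr⟩
  · refine K705.Setup.ss_ext C S hS h.vb (isFinLocFree_of_rank hE') hF h.pos hpos ?_ ?_ h.ss hs
    · change K707.Deg.dg k E * rk (E ⊞ F) = K707.Deg.dg k (E ⊞ F) * rk E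
      rw [h.dg, hd']; simp
    · change K707.Deg.dg k F * rk (E ⊞ F) = K707.Deg.dg k (E ⊞ F) * rk F
      rw [hd, hd']; simp
  · intro c hc hn
    exact h.sec c hc (noSec_sub (biprod.inl : E ⟶ E ⊞ F) hn)

/-- Adding a trivial summand. -/
theorem Good.succ {E : X.Modules} (h : Good k hdim E) :
    ∃ E' : X.Modules, Good k hdim E' ∧ rk E' = rk E + 1 := by
  have C : Crv k X := Crv.of_smooth hdim
  have hO : FlatMod.IsFinLocFreeOfRank 1 (Coh.structureModule X) := rank_unit
  obtain ⟨h1, h2⟩ := h.biprod hdim (isFinLocFree_of_rank hO) (by rw [rk_of_rank hO]; exact one_pos)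
    K708.SSH0.dg_structureModule (TensPow.ss_unit C)
  exact ⟨_, h1, by rw [h2, rk_of_rank hO]⟩

theorem Good.exists_ge {E : X.Modules} (h : Good k hdim E) (m : ℕ) :
    ∃ E' : X.Modules, Good k hdim E' ∧ rk E' = rk E + m := by
  induction m with
  | zero => exact ⟨E, h, rfl⟩
  | succ m ih =>
    obtain ⟨E', hE', hr⟩ := ih
    obtain ⟨E'', hE'', hr'⟩ := hE'.succ hdim
    exact ⟨E'', hE'', by omega⟩

section twist

variable {N : X.Modules} (hN : PicF.IsInvertible N) (hd : K707.Deg.dg k N = 0)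

include hN hd in
omit [IsAlgClosed k] in
theorem numbers_twist {E : X.Modules} (hE : FlatMod.IsFinLocFree E) :
    FlatMod.IsFinLocFree (CohB1.tensorMod E N) ∧ rk (CohB1.tensorMod E N) = rk E ∧
      dg k (CohB1.tensorMod E N) = dg k E := by
  have := isNoetherian k (X := X)
  have r1 := rank_one_iff.mpr hN
  refine ⟨vb_tensor hE (vb_of_inv hN), (rk_tensor r1 (coh_of_vb hE)).trans (one_mul _), ?_⟩
  rw [dg_tensor k hdim r1 (coh_of_vb hE), hd]
  simp

include hN in
omit [IsAlgClosed k] in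
theorem ss_twist {E : X.Modules} (hE : FlatMod.IsFinLocFree E) (h : SS k E) : SS k (CohB1.tensorMod E N) :=
  K703.TwSS.ss_twist (Crv.of_smooth hdim) hN (coh_of_vb hE) h

include hN in
omit [IsAlgClosed k] in
theorem st_twist {E : X.Modules} (hE : FlatMod.IsFinLocFree E) (h : St k E) : St k (CohB1.tensorMod E N) :=
  K703.TwSS.st_twist (Crv.of_smooth hdim) hN (coh_of_vb hE) h

include hN hd in
theorem hasSec_twist {E : X.Modules} (h : HasSec k hdim E) : HasSec k hdim (CohB1.tensorMod E N) := by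
  intro c hc hn
  refine h (Additive.ofMul (mk N hN) + c) ?_ ?_
  · rw [map_add, deg_cls, hd, zero_add, hc]
  · obtain ⟨M, hM, rfl⟩ := exists_rep (X := X) c
    rw [noSec_iff _ hM] at hn
    have hNM := Fdesc.LocGen.isInvertible_tensorMod hN hM
    have h1 : Additive.ofMul (mk N hN) + Additive.ofMul (mk M hM) = Additive.ofMul (mk _ hNM) := by
      rw [← mk_mul_mk hN hM]; rfl
    rw [h1, noSec_iff _ hNM]
    exact forall_eq_zero_of_iso (Ega2.Tens.assoc E N M) hn

include hN hd in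
theorem Good.twist {E : X.Modules} (h : Good k hdim E) : Good k hdim (CohB1.tensorMod E N) := by
  obtain ⟨e1, e2, e3⟩ := numbers_twist hdim hN hd h.vb
  exact ⟨e1, by rw [e2]; exact h.pos, by rw [e3]; exact h.dg, ss_twist hdim hN h.vb h.ss,
    hasSec_twist hdim hN hd h.sec⟩

end twist

/-- **Twisting to a trivial determinant.** -/
theorem exists_trivDet [CharZero k] {E : X.Modules} (hE : FlatMod.IsFinLocFree E) (hpos : 0 < rk E)
    (hdE : dg k E = 0) :
    ∃ N : X.Modules, PicF.IsInvertible N ∧ dg k N = 0 ∧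
      ∃ D : X.Modules, ExtPow.IsExtPow (rk E) (CohB1.tensorMod E N) D ∧ Nonempty (D ≅ Coh.structureModule X) := by
  have hEr := isFinLocFreeOfRank_rk hE
  obtain ⟨D₀, -, hD₀⟩ := Krr.H495.ExtExist.exists_isExtPow (rk E) E hE
  have hr0 := Krr.H495.Rank.rank_extPow hEr hD₀
  rw [Nat.choose_self] at hr0
  have hi0 : PicF.IsInvertible D₀ := rank_one_iff.mp hr0
  have hdeg : K532.CurvePic.deg k X (mk D₀ hi0) = 0 := by
    rw [K532.CurvePic.deg_mk k X hdim hi0, ← Groth.Agent.S7638.result k X hdim.le (rk E) E hEr D₀ hD₀,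
      ← dg_of_rank k hEr, hdE]
  have hn : ((rk E : ℕ) : k) ≠ 0 := Nat.cast_ne_zero.mpr hpos.ne'
  obtain ⟨ν, hν⟩ := PicRoot.exists_root k X hdim (rk E) hn (mk D₀ hi0)⁻¹ (by
    have h1 := (Cd k hdim).deg.map_neg (Additive.ofMul (mk D₀ hi0))
    have h2 : (Cd k hdim).deg (Additive.ofMul (mk D₀ hi0)) = 0 := hdeg
    rw [h2, neg_zero] at h1
    exact h1)
  obtain ⟨N, hN, rfl⟩ := exists_mk ν
  have hdN : dg k N = 0 := by
    have h1 := (Cd k hdim).deg.map_nsmul (rk E) (Additive.ofMul (mk N hN))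
    have h2 : (Cd k hdim).deg (rk E • Additive.ofMul (mk N hN)) = 0 := by
      have h3 : rk E • Additive.ofMul (mk N hN) = - Additive.ofMul (mk D₀ hi0) := congrArg Additive.ofMul hν
      rw [h3, map_neg]
      exact neg_eq_zero.mpr hdeg
    rw [h2, deg_cls, nsmul_eq_mul] at h1
    rcases mul_eq_zero.mp h1.symm with h | h
    · exact absurd (by exact_mod_cast h) hpos.ne'
    · exact h
  have := isNoetherian k (X := X)
  obtain ⟨D, -, hD⟩ := Krr.H495.ExtExist.exists_isExtPow (rk E) (CohB1.tensorMod E N) (vb_tensor hE (vb_of_inv hN))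
  obtain ⟨e⟩ := Groth.Agent.S15827.result E N hE (rank_one_iff.mpr hN) (rk E) D D₀ hD hD₀
  refine ⟨N, hN, hdN, D, hD, ?_⟩
  have hNp := Fdesc.LocGen.isInvertible_tensorPow hN (rk E)
  have h1 : mk (CohB1.tensorMod D₀ (CohB1.tensorPow N (rk E))) (Fdesc.LocGen.isInvertible_tensorMod hi0 hNp) = 1 := by
    rw [← mk_mul_mk hi0 hNp, mk_tensorPow hN, hν, mul_inv_cancel]
  obtain ⟨e'⟩ := (mk_eq_one_iff _).mp h1
  exact ⟨e ≪≫ e'⟩

end K658.Stable
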