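import Groth.Agent.CurvesA.PicMod
import Groth.Agent.CurvesA.H1GmPicSurj
import Groth.Agent.Curves.K319.PicCD
import Groth.Agent.S0231
import Groth.Agent.S1535

/-!
# Classes of degree zero on a smooth proper curve over an algebraically closed field are divisible
-/

set_option autoImplicit false
universe u

open CategoryTheory CategoryTheory.Limits AlgebraicGeometry TopologicalSpace

namespace K658.PicRoot

open Groth.Agent Groth.Agent.Grpsch.PicGrp K532.CurvePic K319.PicCD

theorem abs {D H : Type*} [AddCommGroup D] [AddCommGroup H] (cls : D →+ H) (hs : Function.Surjective cls)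
    (deg : D →+ ℤ) (D₁ : D) (hD₁ : deg D₁ = 1) (n : ℕ) (hdiv : ∀ E, deg E = 0 → ∃ a, n • a = cls E)
    (deg' : H →+ ℤ) (u : H) (hu : deg' u = 1) (c : H) (hc : deg' c = 0) : ∃ a, n • a = c := by
  have key : ∀ x : H, ∃ (m : ℤ) (a : H), x = m • cls D₁ + n • a := by
    intro x
    obtain ⟨E, rfl⟩ := hs x
    obtain ⟨a, ha⟩ := hdiv (E - deg E • D₁) (by rw [map_sub, map_zsmul, hD₁]; simp)
    exact ⟨deg E, a, by rw [ha, map_sub, map_zsmul]; abel⟩
  obtain ⟨m, a, rfl⟩ := key c
  obtain ⟨l, b, hl⟩ := key u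
  have h1 : (1 : ℤ) = l * deg' (cls D₁) + n * deg' b := by rw [← hu, hl]; simp
  have h2 : m * deg' (cls D₁) + n * deg' a = 0 := by rw [← hc]; simp
  have h3 : m = n * (m * deg' b - l * deg' a) := by linear_combination m * h1 + l * h2
  refine ⟨(m * deg' b - l * deg' a) • cls D₁ + a, ?_⟩
  rw [nsmul_add, ← natCast_zsmul, smul_smul, ← h3]

variable (k : Type u) [Field k] (X : Scheme.{u}) [X.Over (Spec (CommRingCat.of k))]
  [IsIntegral X]

theorem reg [Smooth (X ↘ Spec (CommRingCat.of k))] (hdim : topologicalKrullDim X = 1) : Reg X :=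
  ⟨hdim, fun x => Groth.Agent.S1535.result k X x⟩

variable [IsAlgClosed k] [IsProper (X ↘ Spec (CommRingCat.of k))] [Smooth (X ↘ Spec (CommRingCat.of k))]

/-- Classes of degree `0` are divisible by `n`, if `n` is invertible. -/
theorem exists_root (hdim : topologicalKrullDim X = 1) (n : ℕ) (hnk : (n : k) ≠ 0) (c : Pic X)
    (hc : deg k X c = 0) : ∃ d : Pic X, d ^ n = c := by
  let f := X ↘ Spec (CommRingCat.of k)
  have hded : CurvesA.DivPoint.IsDed X :=
    CurvesA.CurveDvr.isDiscreteValuationRing_stalk f hdim.le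
  have hLN : IsLocallyNoetherian X := LocallyOfFiniteType.isLocallyNoetherian f
  have hC : CompactSpace X := QuasiCompact.compactSpace_of_compactSpace f
  obtain ⟨x₀, hx₀⟩ := CurvesA.CurveDvr.exists_ne_genericPoint hdim
  let C := cd k X (reg k X hdim)
  have := C.infinite
  obtain ⟨P₀⟩ : Nonempty (Pts X) := inferInstance
  let e := CurvesA.H1GmPic.picEquiv X
  obtain ⟨a, ha⟩ := abs (CurvesA.DivCls.divCls hded)
    (CurvesA.DivCls.divCls_surjective hded (Groth.Agent.S0231.result k X f hdim 1 le_rfl))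
    (CurvesA.CurveDeg.deg X) (Finsupp.single ⟨x₀, hx₀⟩ 1) (CurvesA.CurveDeg.deg_single _ _) n
    (fun E hE => CurvesA.PicMod.exists_nsmul f hded hdim n hnk E (by rw [hE]; exact dvd_zero _))
    (C.deg.comp e.symm.toAddMonoidHom) (e (C.p P₀))
    ((congrArg C.deg (e.symm_apply_apply _)).trans (C.deg_p P₀)) (e (Additive.ofMul c))
    ((congrArg C.deg (e.symm_apply_apply _)).trans hc)
  refine ⟨(e.symm a).toMul, ?_⟩
  have h1 : n • e.symm a = Additive.ofMul c := by
    rw [← map_nsmul, ha, e.symm_apply_apply]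
  exact congrArg Additive.toMul h1

end K658.PicRoot
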