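import Groth.Agent.VBCurve.K708.DualDeg

/-!
# The dual of a semistable bundle is semistable
-/

set_option autoImplicit false
universe u

open CategoryTheory CategoryTheory.Limits AlgebraicGeometry TopologicalSpace Opposite Module MonoidalCategory

namespace K658.DualSS

open Groth.Agent Groth.Agent.VarietyA.DegRank K707.Base K707.Deg K707.Slope K707.Semi K708.DualDeg
open Groth.Agent.Krr.H492.DualK
open scoped Groth.Agent.Dcoh.MonCat

variable {k : Type u} [Field k] {X : Scheme.{u}} [X.Over (Spec (CommRingCat.of k))]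
  [IsIntegral X] [IsProper (X ↘ (Spec (CommRingCat.of k)))]

theorem ss_dual (C : Crv k X) {M Q : X.Modules} [ExactPairing M Q] (hM : FlatMod.IsFinLocFree M)
    (hQ : FlatMod.IsFinLocFree Q) (h : SS k M) : SS k Q := by
  intro F i hi hF
  obtain ⟨F', G, a, j, q, w, ha, haj, hS, hF', hG, e1, e2, e3, e4⟩ :=
    exists_saturation C i (coh_of_vb hF) (coh_of_vb hQ)
  have hj : Mono j := hS.mono_f
  have hF'v : FlatMod.IsFinLocFree F' := vb_of_mono C j hF' hQ
  have hS' := dl_shortExact hS hF'v hQ hG
  let _ : ExactPairing Q M := K708.Dual.swapPairing M Q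
  let e : M ≅ dl Q := dualIso Q M
  let g : dl Q ⟶ dl F' := (Sga2.PnHomExact.homSC (ShortComplex.mk j q w) (Coh.structureModule X)).g
  have hg : Epi g := hS'.epi_g
  have h1 := h.quot C hM (e.hom ≫ g) (coh_of_vb (isFinLocFree_dl hF'v))
  rw [rk_dl C hF'v, dg_dl C hF'v] at h1
  have r1 := rk_dual C hM Q
  have d1 := dg_dual C hM Q
  rw [r1, d1, ← e1]
  have hr : (0 : ℤ) ≤ rk M := by positivity
  nlinarith

end K658.DualSS
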