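import Groth.Agent.VBCurve.K658.Stable
import Groth.Agent.VBCurve.K658.DualSS
import Groth.Agent.VBCurve.K703.Stab
import Groth.Agent.VBCurve.K708.Geom
import Groth.Agent.S1533

/-!
# Semistable bundles of degree zero all of whose twists of degree `g - 1` have sections
-/

set_option autoImplicit false
universe u
open CategoryTheory CategoryTheory.Limits AlgebraicGeometry TopologicalSpace Opposite IsLocalRing

namespace K658.BasePts

open Groth.Agent MonoidalCategory K707.Base K707.Deg K707.Slope K707.Semi K704.Pt K704.Eval K704.HomK K658.EvGen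
open K707.TensL K319 K319.PicCD Groth.Agent.Grpsch.PicGrp K658.NoSec K658.Stable K658.TensPow
open Groth.Agent.Dix.PointIdeal Groth.Agent.VarietyA.DegRank
open scoped Groth.Agent.Dcoh.MonCat

variable (k : Type u) [Field k] {X : Scheme.{u}} [X.Over (Spec (CommRingCat.of k))]
  [IsIntegral X] [IsProper (X ↘ Spec (CommRingCat.of k))] [Smooth (X ↘ Spec (CommRingCat.of k))]
  [IsAlgClosed k] (hdim : topologicalKrullDim X = 1)

include hdim

/-- Invertible modules of every degree `≥ 0`. -/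
theorem exists_inv_nat (m : ℕ) : ∃ N : X.Modules, PicF.IsInvertible N ∧ dg k N = m ∧ ∃ s : Sec N, s ≠ 0 := by
  obtain ⟨c, hc, hc'⟩ := AbsIrr.exists_eff (Cd k hdim) m
  obtain ⟨N, hN, rfl⟩ := exists_rep (X := X) c
  rw [deg_cls] at hc
  exact ⟨N, hN, hc, (h_cls_ne_zero_iff k hdim hN).mp hc'⟩

/-- **The semistable bundle with sections in all twists of degree `g - 1`.** -/
theorem exists_good (h0 : Module.finrank k (Coh.HH X (Coh.structureModule X) 0) = 1) (hg : 2 ≤ (Cd k hdim).g)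
    (hgen : (Curv2.genus k X : ℤ) = (Cd k hdim).g)
    (hTP : ∀ E F : X.Modules, FlatMod.IsFinLocFree E → FlatMod.IsFinLocFree F → SS k E → SS k F →
      SS k (CohB1.tensorMod E F)) :
    ∃ E : X.Modules, Good k hdim E := by
  have C : Crv k X := Crv.of_smooth hdim
  have := isNoetherian k (X := X)
  set g := (Cd k hdim).g with hgdef
  let n := g ^ 2
  have hgn : g ≤ n := by change g ≤ g ^ 2; nlinarith
  obtain ⟨L, hL, hdL, -⟩ := exists_inv_nat k hdim (n + g)
  have hLr : FlatMod.IsFinLocFreeOfRank 1 L := rank_one_iff.mpr hL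
  have hcL := K707.Base.isCoh_of_rank hLr
  -- sections of `L`
  have hsec : Module.finrank k (Sec L) = n + 1 := by
    have h1 := (Cd k hdim).rr (Additive.ofMul (mk L hL))
    have h2 : (Cd k hdim).h ((Cd k hdim).K - Additive.ofMul (mk L hL)) = 0 := (Cd k hdim).h_neg _ (by
      rw [map_sub, (Cd k hdim).deg_K, deg_cls, hdL]
      push_cast
      have : (g : ℤ) ≤ n := by exact_mod_cast hgn
      omega)
    rw [h2, h_cls, deg_cls, hdL] at h1
    push_cast at h1
    have : (Module.finrank k (Sec L) : ℤ) = n + 1 := by rw [h1]; ring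
    exact_mod_cast this
  have hfin : Module.Finite k (Sec L) := finite_sec k hcL
  let b : Module.Basis (Fin (n + 1)) k (Sec L) := Module.finBasisOfFinrankEq k _ hsec
  have hgg : Curv2.IsGloballyGenerated L := Groth.Agent.S1533.result k X hdim h0 L hL (by
    rw [← dg_of_rank k hLr, hdL, hgen]
    push_cast
    have : (g : ℤ) ≤ n := by exact_mod_cast hgn
    omega)
  let φ : FlatMod.freeMod X (n + 1) ⟶ L := ev b
  have hφ : Epi φ := Kern.epi_ev k hcL hgg b.span_eq
  obtain ⟨rM, dM, sM⟩ := Kern.ss_kernel k hdim h0 hL φ (post_ev_injective k h0 b.linearIndependent)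
    (by rw [hdL]; push_cast; rfl) hgn
  have hMv : FlatMod.IsFinLocFree (kernel φ) :=
    vb_kernel C φ (isFinLocFree_of_rank (rank_free X (n + 1))) hcL
  have hMr := isFinLocFreeOfRank_rk hMv
  obtain ⟨Q, hQr, ⟨hpair⟩⟩ := K708.Dual.exists_dual hMr
  have hQ := isFinLocFree_of_rank hQr
  have rQ : rk Q = n := (K708.DualDeg.rk_dual C hMv Q).trans rM
  have dQ : dg k Q = n + g := by
    rw [K708.DualDeg.dg_dual C hMv Q, dM, hdL]; push_cast; ring
  have sQ : SS k Q := DualSS.ss_dual C hMv hQ sM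
  have hg0 : 0 < g := by omega
  have hn0 : 0 < n := pow_pos hg0 2
  have H : ∀ (p : X) (hp : IsClosed ({p} : Set X)), ∃ f : kernel φ ⟶ ClSub.idealMod (pt p hp), f ≠ 0 :=
    fun p hp => EvPt.exists_ne_zero k hdim hL (by rw [hdL]; exact_mod_cast (by omega : 0 < n + g)) φ p hp
  -- the twisting module
  obtain ⟨A₀, hA₀, hdA₀, -⟩ := exists_inv_nat k hdim (g + 1)
  obtain ⟨A, hA, -, -, hdA⟩ := K708.PtTwist.exists_inv C hA₀
  rw [hdA₀] at hdA
  have hAr := rank_one_iff.mpr hA
  have hT := vb_tp (k := k) hQ g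
  have rT := rk_tp (k := k) hQ g
  have dT := dg_tp hQ C g
  have sT := ss_tp hQ C hTP sQ g
  let E := CohB1.tensorMod (tp Q g) A
  have rE : rk E = rk (tp Q g) := (rk_tensor hAr (coh_of_vb hT)).trans (one_mul _)
  have hrpos : 0 < rk (tp Q g) := by rw [rT, rQ]; exact pow_pos hn0 g
  have dE : dg k E = 0 := by
    have h1 : dg k E = (1 : ℕ) * dg k (tp Q g) + rk (tp Q g) * dg k A := dg_tensor k hdim hAr (coh_of_vb hT)
    rw [dQ, rQ] at dT
    rw [h1, hdA]
    have hn0' : (n : ℤ) ≠ 0 := by exact_mod_cast hn0.ne'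
    apply mul_right_cancel₀ hn0'
    have hn2 : (n : ℤ) = (g : ℤ) ^ 2 := by change ((g ^ 2 : ℕ) : ℤ) = _; push_cast; rfl
    have h2 : ((1 : ℕ) * dg k (tp Q g) + rk (tp Q g) * -((g + 1 : ℕ) : ℤ)) * (n : ℤ) =
        dg k (tp Q g) * n - rk (tp Q g) * (g + 1) * n := by push_cast; ring
    rw [h2, dT, hn2]
    ring
  refine ⟨E, ⟨vb_tensor hT (vb_of_inv hA), by rw [rE]; exact hrpos, dE,
    hTP _ _ hT (vb_of_inv hA) sT (K703.Stab.ss_of_inv C hA), ?_⟩⟩
  intro c hc hno
  obtain ⟨N, hN, rfl⟩ := exists_rep (X := X) c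
  rw [noSec_iff _ hN] at hno
  have hAN := Fdesc.LocGen.isInvertible_tensorMod hA hN
  have hno' : ∀ s : Sec (CohB1.tensorMod (tp Q g) (CohB1.tensorMod A N)), s = 0 :=
    forall_eq_zero_of_iso (Ega2.Tens.assoc (tp Q g) A N) hno
  obtain ⟨e, he, he'⟩ := AbsIrr.exists_eff (Cd k hdim) (g - 2)
  obtain ⟨B, hB, hBc⟩ := exists_rep (X := X) (e - Additive.ofMul (mk _ hAN))
  have hdAN : dg k (CohB1.tensorMod A N) = -2 := by
    have h1 : Additive.ofMul (mk _ hAN) = Additive.ofMul (mk A hA) + Additive.ofMul (mk N hN) := by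
      rw [← mk_mul_mk hA hN]; rfl
    rw [← deg_cls k hdim hAN, h1, map_add, hc, deg_cls, hdA]
    push_cast
    ring
  have hdB : dg k B = g := by
    rw [← deg_cls k hdim hB, hBc, map_sub, he, deg_cls, hdAN]
    push_cast [Nat.cast_sub hg]
    ring
  have hBs : ∃ s : Sec B, s ≠ 0 := (h_cls_ne_zero_iff k hdim hB).mp
    (AbsIrr.h_pos_of_deg (Cd k hdim) (by rw [deg_cls, hdB]))
  obtain ⟨β, hβ⟩ := exists_mono k hdim hQ H g B hB hdB hBs
  have hBAN := Fdesc.LocGen.isInvertible_tensorMod hB hAN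
  obtain ⟨s, hs⟩ := (h_cls_ne_zero_iff k hdim hBAN).mp (by
    rw [← mk_mul_mk hB hAN, ofMul_mul, hBc, sub_add_cancel]
    exact he')
  have hm : Mono (β ▷ CohB1.tensorMod A N) := K708.Dual.mono_whiskerRight (vb_of_inv hAN) β
  let s' : Coh.structureModule X ⟶ B ⊗ CohB1.tensorMod A N := s
  have h1 : s' ≫ (β ▷ CohB1.tensorMod A N) = 0 := hno' _
  exact hs ((cancel_mono (β ▷ CohB1.tensorMod A N)).mp (h1.trans zero_comp.symm))

end K658.BasePts
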