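import Groth.Agent.Curves.K319.CD

/-!
# A Fubini lemma for properties of divisor classes on a curve

A property of classes is `Gen` if, whenever it holds for `c - p x` for one point `x`, it holds for almost all points.
Two `Gen` properties which hold for some classes of the same degree hold for a common class of that degree.
-/

set_option autoImplicit false

namespace K658.AbsIrr

open K319

variable {A : Type*} [AddCommGroup A] {pts : Type*} (C : CD A pts)

/-- `H` holds at almost all `c - p x` as soon as it holds at one of them. -/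
def Gen (H : A → Prop) : Prop := ∀ c, (∃ x, H (c - C.p x)) → {x | ¬ H (c - C.p x)}.Finite

theorem exists_cons {α : Type*} {Z : Multiset α} {m : ℕ} (h : Z.card = m + 1) :
    ∃ (x : α) (W : Multiset α), x ::ₘ W = Z ∧ W.card = m := by
  obtain ⟨x, hx⟩ := Multiset.card_pos_iff_exists_mem.mp (show 0 < Z.card by omega)
  obtain ⟨W, rfl⟩ := Multiset.exists_cons_of_mem hx
  exact ⟨x, W, rfl, by simpa using h⟩

theorem fubini {H H' : A → Prop} (hH : Gen C H) (hH' : Gen C H') (m : ℕ) : ∀ c : A,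
    (∃ Z : Multiset pts, Z.card = m ∧ H (c - C.cl Z)) → (∃ Z : Multiset pts, Z.card = m ∧ H' (c - C.cl Z)) →
      ∃ Z : Multiset pts, Z.card = m ∧ H (c - C.cl Z) ∧ H' (c - C.cl Z) := by
  induction m with
  | zero =>
    rintro c ⟨Z, hZ, h1⟩ ⟨Z', hZ', h2⟩
    rw [Multiset.card_eq_zero] at hZ hZ'
    subst hZ hZ'
    exact ⟨0, rfl, h1, h2⟩
  | succ m ih =>
    rintro c ⟨Z, hZ, h1⟩ ⟨Z', hZ', h2⟩
    obtain ⟨x, W, hW, hZW⟩ := exists_cons hZ
    obtain ⟨x', W', hW', hZW'⟩ := exists_cons hZ'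
    subst hW hW'
    rw [C.cl_cons, show c - (C.p x + C.cl W) = (c - C.cl W) - C.p x by abel] at h1
    rw [C.cl_cons, show c - (C.p x' + C.cl W') = (c - C.cl W') - C.p x' by abel] at h2
    have := C.infinite
    obtain ⟨y, hy⟩ := (((hH _ ⟨x, h1⟩).union (hH' _ ⟨x', h2⟩))).infinite_compl.nonempty
    rw [Set.mem_compl_iff, Set.mem_union, not_or, Set.mem_ofPred_eq, Set.mem_ofPred_eq, not_not, not_not] at hy
    obtain ⟨V, hV, h3, h4⟩ := ih (c - C.p y) ⟨W, hZW, by
        rw [show c - C.p y - C.cl W = c - C.cl W - C.p y by abel]; exact hy.1⟩ ⟨W', hZW', by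
        rw [show c - C.p y - C.cl W' = c - C.cl W' - C.p y by abel]; exact hy.2⟩
    refine ⟨y ::ₘ V, by rw [Multiset.card_cons, hV], ?_⟩
    rw [C.cl_cons, show c - (C.p y + C.cl V) = c - C.p y - C.cl V by abel]
    exact ⟨h3, h4⟩

theorem h_pos_of_deg {a : A} (ha : (C.g : ℤ) ≤ C.deg a) : C.h a ≠ 0 := by
  have h1 := C.rr a
  have h2 : (0 : ℤ) ≤ C.h (C.K - a) := by positivity
  intro h
  rw [h] at h1
  push_cast at h1
  omega

/-- Two generic properties which occur in the same degree occur together. -/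
theorem common {H H' : A → Prop} (hH : Gen C H) (hH' : Gen C H') {c₁ c₂ : A} (hd : C.deg c₂ = C.deg c₁)
    (h₁ : H c₁) (h₂ : H' c₂) : ∃ c, C.deg c = C.deg c₁ ∧ H c ∧ H' c := by
  have := C.infinite
  obtain ⟨x₀⟩ : Nonempty pts := inferInstance
  let Z₁ : Multiset pts := Multiset.replicate C.g x₀
  have hc1 : Z₁.card = C.g := Multiset.card_replicate _ _
  have hd1 : C.deg (C.cl Z₁) = C.g := by rw [C.deg_cl, hc1]
  obtain ⟨Z₂, hZ₂⟩ := C.exists_cl (c₁ + C.cl Z₁ - c₂) (h_pos_of_deg C (by rw [map_sub, map_add, hd, hd1]; omega))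
  have hc2 : Z₂.card = C.g := by
    have h3 := C.deg_cl Z₂
    rw [hZ₂, map_sub, map_add, hd, hd1] at h3
    have : (Z₂.card : ℤ) = C.g := by omega
    exact_mod_cast this
  obtain ⟨Z, hZ, h3, h4⟩ := fubini C hH hH' C.g (c₁ + C.cl Z₁) ⟨Z₁, hc1, by rwa [add_sub_cancel_right]⟩
    ⟨Z₂, hc2, by rw [hZ₂, sub_sub_cancel]; exact h₂⟩
  refine ⟨_, ?_, h3, h4⟩
  rw [map_sub, map_add, hd1, C.deg_cl, hZ]
  omega

theorem exists_kill (n : ℕ) : ∀ a : A, C.h a = n → ∃ Z : Multiset pts, Z.card = n ∧ C.h (a - C.cl Z) = 0 := by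
  induction n with
  | zero =>
    intro a ha
    exact ⟨0, rfl, by rw [C.cl_zero, sub_zero, ha]⟩
  | succ n ih =>
    intro a ha
    have := C.infinite
    obtain ⟨x, hx⟩ := (C.finite_not_nb a (by omega)).infinite_compl.nonempty
    rw [Set.mem_compl_iff, Set.mem_ofPred_eq, not_not] at hx
    have h1 := C.h_of_nb x a hx
    obtain ⟨Z, hZ, h2⟩ := ih (a - C.p x) (by omega)
    refine ⟨x ::ₘ Z, by rw [Multiset.card_cons, hZ], ?_⟩
    rw [C.cl_cons, show a - (C.p x + C.cl Z) = a - C.p x - C.cl Z by abel]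
    exact h2

/-- There are classes of degree `g - 1` without sections. -/
theorem exists_noneff : ∃ c : A, C.deg c = (C.g : ℤ) - 1 ∧ C.h c = 0 := by
  have := C.infinite
  obtain ⟨x₀⟩ : Nonempty pts := inferInstance
  let a : A := (2 * C.g) • C.p x₀
  have hda : C.deg a = 2 * (C.g : ℤ) := by
    rw [map_nsmul, C.deg_p]; simp
  have h1 := C.rr a
  have h2 : C.h (C.K - a) = 0 := C.h_neg _ (by rw [map_sub, C.deg_K, hda]; omega)
  obtain ⟨Z, hZ, h3⟩ := exists_kill C (C.h a) a rfl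
  refine ⟨_, ?_, h3⟩
  rw [map_sub, C.deg_cl, hZ, h1, h2, hda]
  push_cast
  ring

/-- Effective classes of a given degree exist. -/
theorem exists_eff (n : ℕ) : ∃ c : A, C.deg c = n ∧ C.h c ≠ 0 := by
  have := C.infinite
  obtain ⟨x₀⟩ : Nonempty pts := inferInstance
  refine ⟨C.cl (Multiset.replicate n x₀), ?_, C.h_cl_ne_zero _⟩
  rw [C.deg_cl, Multiset.card_replicate]

/-- The numerical estimate behind the semistability of kernel bundles: `h ≥ f + 1` in degree `a` forces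
`(n + g) f ≤ n a` for `f ≤ n`, `g ≤ n`. -/
theorem bound {a : A} {f n : ℕ} (hf : f + 1 ≤ C.h a) (hfn : f ≤ n) (hg : C.g ≤ n) :
    ((n : ℤ) + C.g) * f ≤ C.deg a * n := by
  have hf' : (f : ℤ) + 1 ≤ C.h a := by exact_mod_cast hf
  have hfn' : (f : ℤ) ≤ n := by exact_mod_cast hfn
  have hg' : (C.g : ℤ) ≤ n := by exact_mod_cast hg
  have hf0 : (0 : ℤ) ≤ f := by positivity
  have hn0 : (0 : ℤ) ≤ n := by positivity
  have hg0 : (0 : ℤ) ≤ C.g := by positivity
  rcases le_or_gt ((n : ℤ) + C.g) (C.deg a) with h | h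
  · nlinarith
  by_cases h1 : C.h (C.K - a) = 0
  · have h2 := C.rr a
    rw [h1] at h2
    push_cast at h2
    have h3 : (f : ℤ) ≤ C.deg a - C.g := by omega
    nlinarith
  · have h2 := (C.clifford a (by omega) h1).2
    have h3 : 2 * (f : ℤ) ≤ C.deg a := by omega
    nlinarith

end K658.AbsIrr
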