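import Groth.Agent.VBCurve.K704.Eval
import Groth.Agent.VBCurve.K708.Coprod
import Groth.Agent.VBCurve.K708.Dual
import Groth.Agent.ModSite.K295.AbsFlat
import Groth.Agent.AbVar.K504.Hodge

/-!
# Sections of a vector bundle on a curve vanishing at a point

If no nonzero section of a vector bundle `G` vanishes at some closed point, then no nonzero section vanishes at `p`
for almost all closed points `p`.
-/

set_option autoImplicit false
universe u
open CategoryTheory CategoryTheory.Limits AlgebraicGeometry TopologicalSpace Opposite IsLocalRing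

namespace K658.EvGen

open Groth.Agent MonoidalCategory K707.Base K707.Deg K707.Slope K707.Semi K704.Pt K704.Eval K704.HomK
open Groth.Agent.Dix.PointIdeal Groth.Agent.VarietyA.DegRank
open scoped Groth.Agent.Dcoh.MonCat

section

variable {X : Scheme.{u}}

theorem flat_unit : K295.AbsFlat.Flat (𝟙_ X.Modules) := by
  intro A B f hf
  have h : f ▷ 𝟙_ X.Modules = (ρ_ A).hom ≫ f ≫ (ρ_ B).inv := by
    rw [rightUnitor_inv_naturality]
    simp
  rw [h]
  infer_instance

/-- A subbundle stays a submodule on fibres. -/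
theorem mono_quot {S : ShortComplex X.Modules} (hS : S.ShortExact) (h3 : FlatMod.IsFinLocFree S.X₃)
    (D : X.IdealSheafData) : Mono (S.f ▷ ClSub.quotMod D) := by
  have hq : Epi (qq D) := (VarietyB.DegCartier.idealSeq_shortExact D).epi_g
  exact K295.AbsFlat.mono_whiskerRight S hS (fun A B f hf => K708.Dual.mono_whiskerLeft h3 f) (ClSub.quotMod D)
    (qq D) flat_unit

end

section

variable (k : Type u) [Field k] {X : Scheme.{u}} [X.Over (Spec (CommRingCat.of k))]

theorem Kp_of_sat {S : ShortComplex X.Modules} (hS : S.ShortExact) {r₁ r₂ : ℕ}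
    (h1 : FlatMod.IsFinLocFreeOfRank r₁ S.X₁) (h2 : FlatMod.IsFinLocFreeOfRank r₂ S.X₂)
    (h3 : FlatMod.IsFinLocFree S.X₃) {p : X} (hp : IsClosed ({p} : Set X)) {s : Sec S.X₁}
    (hs : s ≫ S.f ∈ Kp k S.X₂ p hp) : s ∈ Kp k S.X₁ p hp := by
  rw [mem_Kp_iff k h2] at hs
  rw [mem_Kp_iff k h1]
  have : Mono (sqMap S.f (pt p hp)).τ₃ := mono_quot hS h3 _
  exact comp_g_eq_zero (sqMap S.f (pt p hp)) s hs

/-- The evaluation map of a family of sections. -/
noncomputable def ev {G : X.Modules} {n : ℕ} (b : Fin n → Sec G) : FlatMod.freeMod X n ⟶ G :=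
  Sigma.desc b

omit [X.Over (Spec (CommRingCat.of k))] in
theorem ι_ev {G : X.Modules} {n : ℕ} (b : Fin n → Sec G) (i : Fin n) :
    Sigma.ι (fun _ : Fin n => Coh.structureModule X) i ≫ ev b = b i :=
  Sigma.ι_desc b i

/-- The coordinates of a section of the free module. -/
noncomputable def co {n : ℕ} (s : Sec (FlatMod.freeMod X n)) (i : Fin n) : Sec (Coh.structureModule X) :=
  s ≫ K708.Coprod.proj (fun _ : Fin n => Coh.structureModule X) i

omit [X.Over (Spec (CommRingCat.of k))] in
theorem eq_sum {n : ℕ} (s : Sec (FlatMod.freeMod X n)) :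
    s = ∑ i, co s i ≫ Sigma.ι (fun _ : Fin n => Coh.structureModule X) i :=
  K708.Coprod.eq_lift (fun _ : Fin n => Coh.structureModule X) s

omit [X.Over (Spec (CommRingCat.of k))] in
theorem comp_ev {G : X.Modules} {n : ℕ} (b : Fin n → Sec G) (s : Sec (FlatMod.freeMod X n)) :
    s ≫ ev b = ∑ i, co s i ≫ b i := by
  conv_lhs => rw [eq_sum s]
  rw [Preadditive.sum_comp]
  refine Finset.sum_congr rfl fun i _ => ?_
  rw [Category.assoc, ι_ev]

theorem rank_free (X : Scheme.{u}) (n : ℕ) : FlatMod.IsFinLocFreeOfRank n (FlatMod.freeMod X n) := fun _ =>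
    ⟨⊤, trivial, ⟨(Dcoh.FinLocFree.restrictFree _ n).symm⟩⟩

section

variable [Nonempty X] (h0 : Module.finrank k (Coh.HH X (Coh.structureModule X) 0) = 1)

omit [X.Over (Spec (CommRingCat.of k))] in
theorem one_ne_zero' : (𝟙 (Coh.structureModule X) : Sec (Coh.structureModule X)) ≠ 0 := fun h =>
  K704.InvHom.not_isZero (Fdesc.LocGen.isInvertible_structureModule (X := X)) ((IsZero.iff_id_eq_zero _).2 h)

include h0 in
theorem exists_scalar (s : Sec (Coh.structureModule X)) : ∃ a : k, s = a • 𝟙 (Coh.structureModule X) := by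
  have h1 : Module.finrank k (Sec (Coh.structureModule X)) = 1 := by
    rw [finrank_hom]; exact h0
  obtain ⟨a, ha⟩ := (finrank_eq_one_iff_of_nonzero' (K := k) _ one_ne_zero').mp h1 s
  exact ⟨a, ha.symm⟩

include h0 in
theorem post_ev_injective {G : X.Modules} {n : ℕ} {b : Fin n → Sec G} (hb : LinearIndependent k b)
    (s : Sec (FlatMod.freeMod X n)) (hs : s ≫ ev b = 0) : s = 0 := by
  choose c hc using fun i => exists_scalar k h0 (co s i)
  rw [comp_ev] at hs
  have h1 : ∑ i, c i • b i = 0 := by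
    rw [← hs]
    refine Finset.sum_congr rfl fun i _ => ?_
    rw [hc i, Linear.smul_comp, Category.id_comp]
  have h2 := Fintype.linearIndependent_iff.mp hb c h1
  rw [eq_sum s]
  refine Finset.sum_eq_zero fun i _ => ?_
  rw [hc i, h2 i, zero_smul, zero_comp]

omit [Nonempty X] in
theorem post_ev_surjective {G : X.Modules} {n : ℕ} {b : Fin n → Sec G} (hb : Submodule.span k (Set.range b) = ⊤)
    (t : Sec G) : ∃ s : Sec (FlatMod.freeMod X n), s ≫ ev b = t := by
  have h1 : t ∈ Submodule.span k (Set.range b) := hb ▸ trivial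
  obtain ⟨c, hc⟩ := (Submodule.mem_span_range_iff_exists_fun k).mp h1
  refine ⟨∑ i, c i • Sigma.ι (fun _ : Fin n => Coh.structureModule X) i, ?_⟩
  rw [Preadditive.sum_comp, ← hc]
  refine Finset.sum_congr rfl fun i _ => ?_
  rw [Linear.smul_comp, ι_ev]

end

variable [IsIntegral X] [IsProper (X ↘ Spec (CommRingCat.of k))] [Smooth (X ↘ Spec (CommRingCat.of k))]
  [IsAlgClosed k] (hdim : topologicalKrullDim X = 1)

include hdim

theorem Kp_free {n : ℕ} (p : X) (hp : IsClosed ({p} : Set X)) {s : Sec (FlatMod.freeMod X n)}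
    (hs : s ∈ Kp k (FlatMod.freeMod X n) p hp) : s = 0 := by
  rw [eq_sum s]
  refine Finset.sum_eq_zero fun i _ => ?_
  have h1 : co s i ∈ Kp k (Coh.structureModule X) p hp :=
    comp_mem_Kp k (K708.Coprod.proj (fun _ : Fin n => Coh.structureModule X) i) p hp hs
  rw [Kp_unit k hdim p hp h1, zero_comp]

include k in
omit [IsAlgClosed k] [Smooth (X ↘ Spec (CommRingCat.of k))] in
theorem finrank_sec_free (h0 : Module.finrank k (Coh.HH X (Coh.structureModule X) 0) = 1) (n : ℕ) :
    Module.finrank k (Sec (FlatMod.freeMod X n)) = n := by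
  rw [finrank_hom, K504.Hodge.finrank_HH_freeMod, h0, mul_one]

/-- If no nonzero section vanishes at `x₀` then the evaluation map of a family of independent sections is a
monomorphism. -/
theorem mono_ev (h0 : Module.finrank k (Coh.HH X (Coh.structureModule X) 0) = 1) {G : X.Modules} {r : ℕ}
    (hG : FlatMod.IsFinLocFreeOfRank r G) {n : ℕ} {b : Fin n → Sec G} (hb : LinearIndependent k b)
    (x₀ : X) (hx₀ : IsClosed ({x₀} : Set X)) (h : ∀ s ∈ Kp k G x₀ hx₀, s = 0) : Mono (ev b) := by
  have C : Crv k X := Crv.of_smooth hdim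
  have hF := rank_free X n
  have hcF := K707.Base.isCoh_of_rank hF
  have hcG := K707.Base.isCoh_of_rank hG
  obtain ⟨I, p, i, hp, hi, hpi, hI, -⟩ := exists_factor C (ev b) hcF hcG
  have hIv : FlatMod.IsFinLocFree I := vb_of_mono C i hI (isFinLocFree_of_rank hG)
  have hK : FlatMod.IsFinLocFree (kernel p) := vb_kernel C p (isFinLocFree_of_rank hF) hI
  have hKr := isFinLocFreeOfRank_rk hK
  have hS := kernel_shortExact p
  rcases Nat.eq_zero_or_pos (rk (kernel p)) with hz | hpos
  · have : Mono p := Preadditive.mono_of_isZero_kernel p (isZero_of_rk_eq_zero C hK hz)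
    rw [← hpi]
    exact mono_comp p i
  exfalso
  let Q := ClSub.quotMod (pt x₀ hx₀)
  have h1 : Module.finrank k (Sec (kernel p ⊗ Q)) = rk (kernel p) := by
    rw [finrank_hom]
    exact h0_tens_quot k X hdim x₀ hx₀ hKr
  have h1' : Nontrivial (Sec (kernel p ⊗ Q)) := Module.nontrivial_of_finrank_pos (R := k) (by omega)
  obtain ⟨t, ht⟩ := exists_ne (0 : Sec (kernel p ⊗ Q))
  have hm : Mono (kernel.ι p ▷ Q) := mono_quot hS hIv _
  let g : Sec (FlatMod.freeMod X n) →ₗ[k] Sec (FlatMod.freeMod X n ⊗ Q) :=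
    post k (sq (FlatMod.freeMod X n) (pt x₀ hx₀)).g
  have hgi : Function.Injective g := by
    rw [injective_iff_map_eq_zero]
    intro s hs
    exact Kp_free k hdim x₀ hx₀ ((mem_Kp_iff k hF x₀ hx₀ s).mpr hs)
  have f1 : Module.finrank k (Sec (FlatMod.freeMod X n)) = n := finrank_sec_free k hdim h0 n
  have f2 : Module.finrank k (Sec (FlatMod.freeMod X n ⊗ Q)) = n := by
    rw [finrank_hom]
    exact h0_tens_quot k X hdim x₀ hx₀ hF
  have m1 : Module.Finite k (Sec (FlatMod.freeMod X n)) := finite_sec k hcF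
  have m2 : Module.Finite k (Sec (FlatMod.freeMod X n ⊗ Q)) := finite_sec k (coh_tens_quot k X x₀ hx₀ hF)
  obtain ⟨s, hs⟩ := (LinearMap.injective_iff_surjective_of_finrank_eq_finrank (f1.trans f2.symm)).mp hgi
    (t ≫ kernel.ι p ▷ Q)
  have hs' : s ≫ (sq (FlatMod.freeMod X n) (pt x₀ hx₀)).g = t ≫ kernel.ι p ▷ Q := hs
  have h2 : s ≫ ev b ∈ Kp k G x₀ hx₀ := by
    rw [mem_Kp_iff k hG]
    have h3 : ev b ≫ (sq G (pt x₀ hx₀)).g = (sq (FlatMod.freeMod X n) (pt x₀ hx₀)).g ≫ ev b ▷ Q :=
      (sqMap (ev b) (pt x₀ hx₀)).comm₂₃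
    have h5 : (t ≫ kernel.ι p ▷ Q) ≫ ev b ▷ Q = 0 := by
      rw [Category.assoc, ← comp_whiskerRight, ← hpi, kernel.condition_assoc, zero_comp,
        MonoidalPreadditive.zero_whiskerRight, comp_zero]
    rw [Category.assoc]
    exact (congrArg (fun z => s ≫ z) h3).trans ((Category.assoc _ _ _).symm.trans
      ((congrArg (fun z => z ≫ ev b ▷ Q) hs').trans h5))
  have h4 := post_ev_injective k h0 hb s (h _ h2)
  rw [h4, zero_comp] at hs'
  exact ht ((cancel_mono (kernel.ι p ▷ Q)).mp (hs'.symm.trans zero_comp.symm))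

/-- **If no nonzero section of `G` vanishes at `x₀` then for almost all closed points `p` no nonzero section of `G`
vanishes at `p`.** -/
theorem main (h0 : Module.finrank k (Coh.HH X (Coh.structureModule X) 0) = 1) {G : X.Modules} {r : ℕ}
    (hG : FlatMod.IsFinLocFreeOfRank r G)
    (x₀ : X) (hx₀ : IsClosed ({x₀} : Set X)) (h : ∀ s ∈ Kp k G x₀ hx₀, s = 0) :
    ∃ Z : Set X, Z.Finite ∧ ∀ (p : X) (hp : IsClosed ({p} : Set X)), p ∉ Z → ∀ s ∈ Kp k G p hp, s = 0 := by
  have C : Crv k X := Crv.of_smooth hdim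
  have hcG := K707.Base.isCoh_of_rank hG
  have m1 : Module.Finite k (Sec G) := finite_sec k hcG
  let n := Module.finrank k (Sec G)
  let b : Module.Basis (Fin n) k (Sec G) := Module.finBasis k (Sec G)
  have hF := rank_free X n
  have hcF := K707.Base.isCoh_of_rank hF
  have hmono : Mono (ev b) := mono_ev k hdim h0 hG b.linearIndependent x₀ hx₀ h
  obtain ⟨G', Q, a, j, q, w, ha, haj, hS, hG', hQ, e1, e2, e3, e4⟩ := exists_saturation C (ev b) hcF hcG
  have hjm : Mono j := hS.mono_f
  have hG'v : FlatMod.IsFinLocFree G' := vb_of_mono C j hG' (isFinLocFree_of_rank hG)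
  have hG'r := isFinLocFreeOfRank_rk hG'v
  rw [e1, rk_of_rank hF] at hG'r
  have hcok := coh_cokernel a hcF hG'
  have h1 := (mono_numbers C a hcF hG').1
  have h2 := subsingleton_of_rk_eq_zero hcok (by omega)
  have := isNoetherian k (X := X)
  refine ⟨CohB1.support (cokernel a), VarietyA.GlobGen.finite_support _ hcok.2
    (VarietyA.DegRank.dim_support_le_zero hdim.le _ hcok (not_mem_support h2)), fun p hp hpZ s hs => ?_⟩
  obtain ⟨s', rfl⟩ := post_ev_surjective k b.span_eq s
  rw [← haj, ← Category.assoc] at hs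
  have h3 : s' ≫ a ∈ Kp k G' p hp := Kp_of_sat k hS hG'r hG hQ hp hs
  have h4 := mem_Kp_of_comp k hdim hF hG'r a p hp hpZ s' h3
  rw [Kp_free k hdim p hp h4, zero_comp]

end

end K658.EvGen
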