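import Groth.Agent.VBCurve.K658.Kern

/-!
# Evaluation at a point gives a nonzero map from the kernel bundle to the ideal of the point
-/

set_option autoImplicit false
universe u
open CategoryTheory CategoryTheory.Limits AlgebraicGeometry TopologicalSpace Opposite IsLocalRing

namespace K658.EvPt

open Groth.Agent MonoidalCategory K707.Base K707.Deg K707.Slope K707.Semi K704.Pt K704.Eval K704.HomK K658.EvGen
open Groth.Agent.Dix.PointIdeal Groth.Agent.VarietyA.DegRank K707.TensL
open scoped Groth.Agent.Dcoh.MonCat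

variable (k : Type u) [Field k] {X : Scheme.{u}} [X.Over (Spec (CommRingCat.of k))]
  [IsIntegral X] [IsProper (X ↘ Spec (CommRingCat.of k))] [Smooth (X ↘ Spec (CommRingCat.of k))]
  [IsAlgClosed k] (hdim : topologicalKrullDim X = 1)

include k hdim

/-- A nonzero map between fibres of line bundles is a monomorphism. -/
theorem mono_fib {A B : X.Modules} (hA : FlatMod.IsFinLocFreeOfRank 1 A) (hB : FlatMod.IsFinLocFreeOfRank 1 B)
    (p : X) (hp : IsClosed ({p} : Set X)) (f : A ⊗ ClSub.quotMod (pt p hp) ⟶ B ⊗ ClSub.quotMod (pt p hp))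
    (hf : f ≠ 0) : Mono f := by
  have C : Crv k X := Crv.of_smooth hdim
  have hcA := coh_tens_quot k X p hp hA
  have hcB := coh_tens_quot k X p hp hB
  obtain ⟨I, q, i, hq, hi, hqi, hI, e1, e2, e3, e4⟩ := exists_factor C f hcA hcB
  have hK := coh_kernel C f hcA hcB
  have d1 := dg_tens_quot k X hdim p hp hA
  have r1 := rk_eq_zero_of_subsingleton (torsion_tens_quot k X hdim p hp (E := A))
  have tI : Subsingleton (I.presheaf.stalk (genericPoint X)) := subsingleton_of_rk_eq_zero hI (by omega)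
  have tK : Subsingleton ((kernel f).presheaf.stalk (genericPoint X)) := subsingleton_of_rk_eq_zero hK (by omega)
  have hdI : 0 < dg k I := by
    by_contra hle
    have hz := isZero_of_dg_le_zero k C.dim hI tI (by omega)
    apply hf
    rw [← hqi, hz.eq_of_tgt q 0, zero_comp]
  have hz : IsZero (kernel f) := isZero_of_dg_le_zero k C.dim hK tK (by rw [d1] at e2; push_cast at e2; omega)
  exact Preadditive.mono_of_isZero_kernel f hz

/-- **The nonzero map from the kernel bundle to the ideal of a point.** -/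
theorem exists_ne_zero {L : X.Modules} (hL : PicF.IsInvertible L) (hpos : 0 < dg k L) {n : ℕ}
    (φ : FlatMod.freeMod X n ⟶ L) [Epi φ] (p : X) (hp : IsClosed ({p} : Set X)) :
    ∃ f : kernel φ ⟶ ClSub.idealMod (pt p hp), f ≠ 0 := by
  have C : Crv k X := Crv.of_smooth hdim
  have hLr : FlatMod.IsFinLocFreeOfRank 1 L := rank_one_iff.mpr hL
  have hOr : FlatMod.IsFinLocFreeOfRank 1 (Coh.structureModule X) := rank_unit
  let Q := ClSub.quotMod (pt p hp)
  let ιi : Fin n → Sec (FlatMod.freeMod X n) := fun i => Sigma.ι (fun _ : Fin n => Coh.structureModule X) i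
  let gL : L ⟶ L ⊗ Q := (sq L (pt p hp)).g
  let gO : Coh.structureModule X ⟶ Coh.structureModule X ⊗ Q := (sq (Coh.structureModule X) (pt p hp)).g
  have hgL : Epi gL := (sq_shortExact hLr (pt p hp)).epi_g
  have hr1 : Module.finrank k (Sec (L ⊗ Q)) = 1 := by
    rw [finrank_hom]
    exact h0_tens_quot k X hdim p hp hLr
  have hne : ∃ i, (ιi i ≫ φ) ≫ gL ≠ 0 := by
    by_contra hcon
    push Not at hcon
    have h1 : φ ≫ gL = 0 := by
      apply Sigma.hom_ext
      intro i
      rw [comp_zero, ← Category.assoc]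
      exact hcon i
    have h2 : gL = 0 := by rw [← cancel_epi φ, h1, comp_zero]
    have h3 : IsZero (L ⊗ Q) := by
      rw [IsZero.iff_id_eq_zero, ← cancel_epi gL, h2, zero_comp, zero_comp]
    have h4 : Subsingleton (Sec (L ⊗ Q)) := ⟨fun a b => h3.eq_of_tgt a b⟩
    rw [Module.finrank_zero_of_subsingleton] at hr1
    exact absurd hr1 (by norm_num)
  obtain ⟨i₀, hi₀⟩ := hne
  let s : Sec L := ιi i₀ ≫ φ
  let e : Sec (L ⊗ Q) := s ≫ gL
  have he : e ≠ 0 := hi₀
  have hnat : s ≫ gL = gO ≫ (s ▷ Q) := (sqMap s (pt p hp)).comm₂₃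
  have hm : Mono (s ▷ Q) := by
    refine mono_fib k hdim hOr hLr p hp _ fun h => he ?_
    change s ≫ gL = 0
    rw [hnat]
    exact (congrArg (fun z => gO ≫ z) h).trans comp_zero
  choose c hc using fun i => (finrank_eq_one_iff_of_nonzero' (K := k) e he).mp hr1 ((ιi i ≫ φ) ≫ gL)
  let cc : FlatMod.freeMod X n ⟶ Coh.structureModule X := Sigma.desc fun i => c i • 𝟙 (Coh.structureModule X)
  have hcc : ∀ i, ιi i ≫ cc = c i • 𝟙 (Coh.structureModule X) := fun i => Sigma.ι_desc _ i
  have h1 : φ ≫ gL = cc ≫ e := by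
    apply Sigma.hom_ext
    intro i
    have h2 := hcc i
    change ιi i ≫ φ ≫ gL = ιi i ≫ cc ≫ e
    rw [← Category.assoc, ← hc i, reassoc_of% h2, Linear.smul_comp, Category.id_comp]
  have h2 : (kernel.ι φ ≫ cc) ≫ gO = 0 := by
    rw [← cancel_mono (s ▷ Q), zero_comp, Category.assoc, ← hnat, Category.assoc]
    change kernel.ι φ ≫ cc ≫ e = 0
    rw [← h1, kernel.condition_assoc, zero_comp]
  have hS := sq_shortExact hOr (pt p hp)
  have hSf : Mono (sq (Coh.structureModule X) (pt p hp)).f := hS.mono_f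
  let f : kernel φ ⟶ Coh.structureModule X ⊗ ClSub.idealMod (pt p hp) := hS.exact.lift (kernel.ι φ ≫ cc) h2
  have hf : f ≫ (sq (Coh.structureModule X) (pt p hp)).f = kernel.ι φ ≫ cc := hS.exact.lift_f _ h2
  refine ⟨f ≫ (λ_ (ClSub.idealMod (pt p hp))).hom, fun h => ?_⟩
  have h3 : f = 0 := by
    have h4 := (cancel_mono (λ_ (ClSub.idealMod (pt p hp))).hom).mp (h.trans zero_comp.symm)
    exact h4
  rw [h3, zero_comp] at hf
  -- `cc` factors through `φ`
  have hSφ := kernel_shortExact φ
  let d : L ⟶ Coh.structureModule X := hSφ.exact.desc cc hf.symm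
  have hd : φ ≫ d = cc := hSφ.exact.g_desc cc hf.symm
  have hd0 : d = 0 := by
    by_contra hne
    have := K704.InvHom.mono_of_ne_zero hL Fdesc.LocGen.isInvertible_structureModule d hne
    have h5 := dg_le_of_mono C d (K707.Base.isCoh_of_rank hLr) (K707.Base.isCoh_of_rank hOr)
      (by rw [rk_of_rank hLr, rk_of_rank hOr])
    have h6 : dg k (Coh.structureModule X) = 0 := K708.SSH0.dg_structureModule
    omega
  rw [hd0, comp_zero] at hd
  have h7 := hcc i₀
  rw [← hd, comp_zero] at h7
  have h8 := hc i₀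
  have h9 : c i₀ = 0 := (smul_eq_zero.mp h7.symm).resolve_right one_ne_zero'
  rw [h9, zero_smul] at h8
  exact hi₀ h8.symm

end K658.EvPt
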