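import Groth.Agent.VBCurve.K658.EvGen
import Groth.Agent.VBCurve.K658.AbsIrr
import Groth.Agent.VBCurve.K658.PicRoot
import Groth.Agent.VBCurve.K707.IndepGlob
import Groth.Agent.VBCurve.K708.TensBound
import Groth.Agent.VBCurve.K705.EvFib2
import Groth.Agent.Sga67.SerreVB

/-!
# Semistability of kernel bundles

`ss_kernel`: for `L` invertible of degree `n + g`, `g ≤ n`, generated by sections, the kernel of
`H⁰(L) ⊗ O → L` is semistable.
-/

set_option autoImplicit false
universe u
open CategoryTheory CategoryTheory.Limits AlgebraicGeometry TopologicalSpace Opposite IsLocalRing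

namespace K658.Kern

open Groth.Agent K707.Base K707.Deg K707.Slope K707.Semi K704.Pt K704.Eval K704.HomK K658.EvGen
open Groth.Agent.VarietyA.DegRank K532.CurvePic K319.PicCD Groth.Agent.Grpsch.PicGrp K707.TensL

variable (k : Type u) [Field k] {X : Scheme.{u}} [X.Over (Spec (CommRingCat.of k))]

omit [X.Over (Spec (CommRingCat.of k))] in
/-- The evaluation map of a spanning family of sections of a globally generated module is an epimorphism. -/
theorem epi_ev [X.Over (Spec (CommRingCat.of k))] [CompactSpace X] {G : X.Modules} (hG : Coh.IsCoh G)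
    (hgg : Curv2.IsGloballyGenerated G) {n : ℕ} {b : Fin n → Sec G}
    (hb : Submodule.span k (Set.range b) = ⊤) : Epi (ev b) := by
  obtain ⟨N, p, hp⟩ := Sga67.SerreVB.exists_epi_freeMod hG hgg
  choose s hs using fun i : Fin N =>
    post_ev_surjective k hb (Sigma.ι (fun _ : Fin N => Coh.structureModule X) i ≫ p)
  have h1 : ev s ≫ ev b = p := by
    apply Sigma.hom_ext
    intro i
    rw [← Category.assoc, ι_ev]
    exact hs i
  exact epi_of_epi_fac h1

variable [IsIntegral X] [IsProper (X ↘ Spec (CommRingCat.of k))]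

theorem dg_free (C : Crv k X) (n : ℕ) : dg k (FlatMod.freeMod X n) = 0 := K705.EvFib2.dg_free C n

theorem rk_free (n : ℕ) : rk (FlatMod.freeMod X n) = n := rk_of_rank (rank_free X n)

/-- A quotient bundle of `O^N` with kernel without sections has a determinant with many sections. -/
theorem exists_det [Infinite k] (C : Crv k X) (h0 : Module.finrank k (Coh.HH X (Coh.structureModule X) 0) = 1)
    {F G : X.Modules} {N : ℕ} (i : F ⟶ FlatMod.freeMod X N) (p : FlatMod.freeMod X N ⟶ G) (w : i ≫ p = 0)
    (hS : (ShortComplex.mk i p w).ShortExact) (hF : Coh.IsCoh F) (hG : FlatMod.IsFinLocFree G) (hs : 0 < rk G)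
    (h : ∀ t : Sec F, t = 0) :
    ∃ A : X.Modules, PicF.IsInvertible A ∧ dg k A = - dg k F ∧
      rk F + 1 ≤ Module.finrank k (Coh.HH X A 0) := by
  have := isNoetherian k (X := X)
  have hcF := K707.Base.isCoh_of_rank (rank_free X N)
  have hcG := coh_of_vb hG
  have hp : Epi p := hS.epi_g
  have hgg : Curv2.IsGloballyGenerated G := Sga67.SerreVB.isGloballyGenerated_of_epi_freeMod p
  have hGr := isFinLocFreeOfRank_rk hG
  let c : k →+* Γ(X, ⊤) := (X ↘ Spec (CommRingCat.of k)).appTop.hom.comp
    (Scheme.ΓSpecIso (CommRingCat.of k)).inv.hom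
  obtain ⟨v, hv⟩ := K707.IndepGlob.exists_indep_on c hGr hgg (Z := X) C.dim.le id continuous_id (rk G - 1)
    (by omega)
  have hpb : K707.IndepCoker.PartBasis (rk G - (rk G - 1)) v := fun x =>
    K707.IndepGlob.exists_complement' hGr v x (hv x)
  have hm := K707.IndepCoker.mono_homOfFam hpb
  have hA := K707.IndepCoker.rank_cokernel hpb
  rw [show rk G - (rk G - 1) = 1 by omega] at hA
  let A := cokernel (K707.IndepCoker.homOfFam v)
  have hcA : Coh.IsCoh A := K707.Base.isCoh_of_rank hA
  have hcF' := K707.Base.isCoh_of_rank (rank_free X (rk G - 1))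
  have hS' := cokernel_shortExact (K707.IndepCoker.homOfFam v)
  have e1 := (mono_numbers C (K707.IndepCoker.homOfFam v) hcF' hcG).2
  rw [dg_free k C, zero_add] at e1
  have e2 := dg_add k _ hS hF hcF hcG
  have e3 := rk_add' k _ hS hcF
  have e2' : dg k (FlatMod.freeMod X N) = dg k F + dg k G := e2
  have e3' : rk (FlatMod.freeMod X N) = rk F + rk G := e3
  rw [dg_free k C] at e2'
  rw [rk_free] at e3'
  refine ⟨A, rank_one_iff.mp hA, by change dg k (cokernel _) = _; omega, ?_⟩
  have f1 : Module.Finite k (Coh.HH X (ShortComplex.mk i p w).X₂ 0) := S0002.result k X _ hcF 0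
  have f2 : Module.Finite k (Coh.HH X (ShortComplex.mk i p w).X₃ 0) := S0002.result k X _ hcG 0
  have f3 : Module.Finite k (Coh.HH X A 0) := S0002.result k X _ hcA 0
  have g1 := K704.HomK.finrank_le k hS
  have g2 : Module.finrank k (Coh.HH X F 0) = 0 := by
    rw [← finrank_hom]
    have : Subsingleton (Sec F) := ⟨fun a b => (h a).trans (h b).symm⟩
    exact Module.finrank_zero_of_subsingleton
  have f2' : Module.Finite k (Coh.HH X (ShortComplex.mk (K707.IndepCoker.homOfFam v)
    (cokernel.π (K707.IndepCoker.homOfFam v)) (cokernel.condition _)).X₂ 0) := f2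
  have f3' : Module.Finite k (Coh.HH X (ShortComplex.mk (K707.IndepCoker.homOfFam v)
    (cokernel.π (K707.IndepCoker.homOfFam v)) (cokernel.condition _)).X₃ 0) := f3
  have g3 := K704.HomK.finrank_le k hS'
  have g1' : Module.finrank k (Coh.HH X (FlatMod.freeMod X N) 0) ≤
      Module.finrank k (Coh.HH X F 0) + Module.finrank k (Coh.HH X G 0) := g1
  have g3' : Module.finrank k (Coh.HH X G 0) ≤
      Module.finrank k (Coh.HH X (FlatMod.freeMod X (rk G - 1)) 0) + Module.finrank k (Coh.HH X A 0) := g3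
  rw [K504.Hodge.finrank_HH_freeMod, h0, mul_one] at g1' g3'
  omega

/-- A map from `F''` to a bundle which vanishes on a submodule of full rank is zero. -/
theorem eq_zero_of_comp (C : Crv k X) {F F' L : X.Modules} (a : F ⟶ F') (f : F' ⟶ L)
    (hF' : Coh.IsCoh F') (hL : FlatMod.IsFinLocFree L) (hr : rk (cokernel a) = 0) (hF : Coh.IsCoh F)
    (h : a ≫ f = 0) : f = 0 := by
  by_contra hne
  obtain ⟨I, p, i, hp, hi, hpi, hI, hpos, -⟩ := exists_factor_pos C f hne hF' hL
  have h1 : a ≫ p = 0 := by
    rw [← cancel_mono i, Category.assoc, hpi, h, zero_comp]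
  have h2 : Epi (cokernel.desc a p h1) := by
    have : Epi (cokernel.π a ≫ cokernel.desc a p h1) := by rw [cokernel.π_desc]; exact hp
    exact epi_of_epi (cokernel.π a) _
  have h3 := rk_le_of_epi C (cokernel.desc a p h1) (coh_cokernel a hF hF') (coh_of_vb hI)
  omega

variable [Smooth (X ↘ Spec (CommRingCat.of k))] [IsAlgClosed k] (hdim : topologicalKrullDim X = 1)

/-- **Semistability of the kernel bundle.** -/
theorem ss_kernel (h0 : Module.finrank k (Coh.HH X (Coh.structureModule X) 0) = 1) {L : X.Modules}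
    (hL : PicF.IsInvertible L) {n : ℕ} (φ : FlatMod.freeMod X (n + 1) ⟶ L) [Epi φ]
    (hφ : ∀ s : Sec (FlatMod.freeMod X (n + 1)), s ≫ φ = 0 → s = 0)
    (hd : dg k L = n + (cd k X (PicRoot.reg k X hdim)).g) (hg : (cd k X (PicRoot.reg k X hdim)).g ≤ n) :
    rk (kernel φ) = n ∧ dg k (kernel φ) = - dg k L ∧ SS k (kernel φ) := by
  have C : Crv k X := Crv.of_smooth hdim
  have hLr : FlatMod.IsFinLocFreeOfRank 1 L := rank_one_iff.mpr hL
  have hcL := K707.Base.isCoh_of_rank hLr
  have hcF := K707.Base.isCoh_of_rank (rank_free X (n + 1))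
  have e0 := epi_numbers C φ hcF hcL
  rw [rk_free, rk_of_rank hLr, dg_free k C] at e0
  obtain ⟨e1, e2⟩ := e0
  have hrk : rk (kernel φ) = n := by omega
  have hdg : dg k (kernel φ) = - dg k L := by omega
  refine ⟨hrk, hdg, ?_⟩
  intro F i hi hF
  have hcFF := coh_of_vb hF
  have hKv : FlatMod.IsFinLocFree (kernel φ) :=
    vb_kernel C φ (isFinLocFree_of_rank (rank_free X (n + 1))) hcL
  have hle : rk F ≤ n := by
    have := rk_le_of_mono C i hcFF (coh_of_vb hKv)
    omega
  obtain ⟨F', G, a, j, q, w, ha, haj, hS, hF', hG, f1, f2, f3, f4⟩ :=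
    exists_saturation C (i ≫ kernel.ι φ) hcFF hcF
  have hjm : Mono j := hS.mono_f
  rw [rk_free] at f3
  have hz : j ≫ φ = 0 := by
    have h1 := (mono_numbers C a hcFF hF').1
    refine eq_zero_of_comp k C a (j ≫ φ) hF' (isFinLocFree_of_rank hLr) (by omega) hcFF ?_
    rw [← Category.assoc, haj, Category.assoc, kernel.condition, comp_zero]
  obtain ⟨A, hA, hdA, hhA⟩ := exists_det k C h0 j q w hS hF' hG (by omega) (fun t => by
    have h1 : t ≫ j = 0 := hφ _ (by rw [Category.assoc, hz, comp_zero])
    rw [← cancel_mono j, h1, zero_comp])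
  have h2 : (cd k X (PicRoot.reg k X hdim)).h (Additive.ofMul (mk A hA)) = Module.finrank k (Coh.HH X A 0) :=
    h_mk k X 0 hA
  have h3 : (cd k X (PicRoot.reg k X hdim)).deg (Additive.ofMul (mk A hA)) = dg k A :=
    (deg_mk k X hdim hA).trans (dg_of_rank k (rank_one_iff.mpr hA)).symm
  have key := AbsIrr.bound (cd k X (PicRoot.reg k X hdim)) (a := Additive.ofMul (mk A hA)) (f := rk F) (n := n)
    (by rw [h2, ← f1]; exact hhA) hle hg
  rw [h3, hdA] at key
  rw [hrk, hdg, hd]
  have hn : (0 : ℤ) ≤ n := by positivity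
  nlinarith

end K658.Kern
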