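import Groth.Agent.VBCurve.K658.EvPt

/-!
# Tensor powers of the dual of a kernel bundle
-/

set_option autoImplicit false
universe u
open CategoryTheory CategoryTheory.Limits AlgebraicGeometry TopologicalSpace Opposite IsLocalRing

namespace K658.TensPow

open Groth.Agent MonoidalCategory K707.Base K707.Deg K707.Slope K707.Semi K704.Pt K704.Eval K704.HomK K658.EvGen
open K707.TensL
open Groth.Agent.Dix.PointIdeal Groth.Agent.VarietyA.DegRank
open scoped Groth.Agent.Dcoh.MonCat

/-- Tensor powers. -/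
noncomputable def tp {X : Scheme.{u}} (Q : X.Modules) : ℕ → X.Modules
  | 0 => Coh.structureModule X
  | m + 1 => CohB1.tensorMod (tp Q m) Q

theorem pt_eq {X : Scheme.{u}} (p : X) (hp : IsClosed ({p} : Set X)) : K319.Setup.I X p hp = pt p hp := by
  have := K704.Pt.isClosedImmersion p hp
  rw [pt_eq_ker, K319.Setup.I_eq_ker]

section

variable {k : Type u} [Field k] {X : Scheme.{u}} [X.Over (Spec (CommRingCat.of k))]
  [IsIntegral X] [IsProper (X ↘ Spec (CommRingCat.of k))]

theorem ss_unit (C : Crv k X) : SS k (Coh.structureModule X) := by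
  have hO : FlatMod.IsFinLocFreeOfRank 1 (Coh.structureModule X) := rank_unit
  intro F i hi hF
  have h1 : dg k (Coh.structureModule X) = 0 := K708.SSH0.dg_structureModule
  have h2 := rk_le_of_mono C i (coh_of_vb hF) (K707.Base.isCoh_of_rank hO)
  rw [rk_of_rank hO] at h2
  rw [h1, rk_of_rank hO]
  rcases Nat.eq_zero_or_pos (rk F) with h | h
  · rw [dg_of_vb_of_rk_eq_zero C hF h]; simp
  · have h3 := dg_le_of_mono C i (coh_of_vb hF) (K707.Base.isCoh_of_rank hO) (by rw [rk_of_rank hO]; omega)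
    rw [h1] at h3
    push_cast
    omega

variable {Q : X.Modules} (hQ : FlatMod.IsFinLocFree Q)

include k hQ in
theorem vb_tp (m : ℕ) : FlatMod.IsFinLocFree (tp Q m) := by
  have := isNoetherian k (X := X)
  induction m with
  | zero => exact isFinLocFree_of_rank rank_unit
  | succ m ih => exact vb_tensor ih hQ

include k hQ in
theorem rk_tp (m : ℕ) : rk (tp Q m) = rk Q ^ m := by
  induction m with
  | zero => exact rk_of_rank rank_unit
  | succ m ih =>
    change rk (CohB1.tensorMod (tp Q m) Q) = _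
    rw [rk_tensor (isFinLocFreeOfRank_rk hQ) (coh_of_vb (vb_tp (k := k) hQ m)), ih, pow_succ, mul_comm]

include hQ in
theorem dg_tp (C : Crv k X) (m : ℕ) : dg k (tp Q m) * rk Q = m * dg k Q * rk (tp Q m) := by
  induction m with
  | zero =>
    have h1 : dg k (tp Q 0) = 0 := K708.SSH0.dg_structureModule
    rw [h1]; simp
  | succ m ih =>
    have hc := coh_of_vb (vb_tp (k := k) hQ m)
    have h1 : dg k (tp Q (m + 1)) = rk Q * dg k (tp Q m) + rk (tp Q m) * dg k Q :=
      dg_tensor k C.dim (isFinLocFreeOfRank_rk hQ) hc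
    have h2 : rk (tp Q (m + 1)) = rk Q * rk (tp Q m) := rk_tensor (isFinLocFreeOfRank_rk hQ) hc
    rw [h1, h2]
    push_cast
    linear_combination (rk Q : ℤ) * ih

include hQ in
theorem ss_tp (C : Crv k X)
    (hTP : ∀ E F : X.Modules, FlatMod.IsFinLocFree E → FlatMod.IsFinLocFree F → SS k E → SS k F →
      SS k (CohB1.tensorMod E F)) (hss : SS k Q) (m : ℕ) : SS k (tp Q m) := by
  induction m with
  | zero => exact ss_unit C
  | succ m ih => exact hTP _ _ (vb_tp (k := k) hQ m) hQ ih hss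

end

section

variable (k : Type u) [Field k] {X : Scheme.{u}} [X.Over (Spec (CommRingCat.of k))]
  [IsIntegral X] [IsProper (X ↘ Spec (CommRingCat.of k))] [Smooth (X ↘ Spec (CommRingCat.of k))]
  [IsAlgClosed k] (hdim : topologicalKrullDim X = 1)

include hdim

/-- A section of a line bundle of positive degree vanishes at some point. -/
theorem exists_pt {B : X.Modules} (hB : PicF.IsInvertible B) (hd : 0 < dg k B) (s : Sec B) (hs : s ≠ 0) :
    ∃ (p : X) (hp : IsClosed ({p} : Set X)) (s' : Sec (CohB1.tensorMod B (ClSub.idealMod (pt p hp)))), s' ≠ 0 := by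
  let Cd := K319.PicCD.cd k X (PicRoot.reg k X hdim)
  have h1 : Cd.h (Additive.ofMul (Grpsch.PicGrp.mk B hB)) = Module.finrank k (Sec B) := by
    rw [finrank_hom]
    exact K532.CurvePic.h_mk k X 0 hB
  have h2 : Cd.deg (Additive.ofMul (Grpsch.PicGrp.mk B hB)) = dg k B :=
    (K532.CurvePic.deg_mk k X hdim hB).trans (dg_of_rank k (rank_one_iff.mpr hB)).symm
  have hfin : Module.Finite k (Sec B) := finite_sec k (K707.Base.isCoh_of_rank (rank_one_iff.mpr hB))
  have h3 : Cd.h (Additive.ofMul (Grpsch.PicGrp.mk B hB)) ≠ 0 := by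
    rw [h1]
    have : Nontrivial (Sec B) := ⟨⟨s, 0, hs⟩⟩
    exact (Module.finrank_pos (R := k)).ne'
  obtain ⟨P, hP⟩ := Cd.exists_pt _ h3 (by rw [h2]; exact hd)
  have h4 : K532.CurvePic.h k X 0 (Grpsch.PicGrp.mk B hB *
      (K319.PicCD.pt k X (PicRoot.reg k X hdim) P)⁻¹) ≠ 0 := by
    rw [← div_eq_mul_inv]
    exact hP
  rw [K319.PicCD.h_mul_pt_inv, pt_eq, ← finrank_hom] at h4
  have h5 : Nontrivial (Sec (CohB1.tensorMod (ClSub.idealMod (pt P.1 P.2)) B)) := by
    by_contra hcon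
    rw [not_nontrivial_iff_subsingleton] at hcon
    exact h4 Module.finrank_zero_of_subsingleton
  obtain ⟨t, ht⟩ := exists_ne (0 : Sec (CohB1.tensorMod (ClSub.idealMod (pt P.1 P.2)) B))
  refine ⟨P.1, P.2, t ≫ (Ega2.Tens.swap _ _).hom, fun h => ht ?_⟩
  rw [← cancel_mono (Ega2.Tens.swap (ClSub.idealMod (pt P.1 P.2)) B).hom, h, zero_comp]

theorem dg_tensor_pt {B : X.Modules} (hB : PicF.IsInvertible B) (p : X) (hp : IsClosed ({p} : Set X)) :
    dg k (CohB1.tensorMod B (ClSub.idealMod (pt p hp))) = dg k B - 1 := by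
  have hBr : FlatMod.IsFinLocFreeOfRank 1 B := rank_one_iff.mpr hB
  have hI := rank_one_iff.mpr (K704.Pt.isInvertible k X hdim p hp)
  have h1 := dg_add k _ (sq_shortExact hBr (pt p hp)) (coh_tensor hI (K707.Base.isCoh_of_rank hBr))
    (K707.Base.isCoh_of_rank hBr) (coh_tens_quot k X p hp hBr)
  have h2 := dg_tens_quot k X hdim p hp hBr
  have h1' : dg k B = dg k (CohB1.tensorMod B (ClSub.idealMod (pt p hp))) + dg k (B ⊗ ClSub.quotMod (pt p hp)) := h1
  rw [h2] at h1'
  push_cast at h1'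
  omega

theorem exists_mono {M Q : X.Modules} [ExactPairing M Q] (hQ : FlatMod.IsFinLocFree Q)
    (H : ∀ (p : X) (hp : IsClosed ({p} : Set X)), ∃ f : M ⟶ ClSub.idealMod (pt p hp), f ≠ 0) (m : ℕ) :
    ∀ (B : X.Modules), PicF.IsInvertible B → dg k B = m → (∃ s : Sec B, s ≠ 0) →
      ∃ β : B ⟶ tp Q m, Mono β := by
  have C : Crv k X := Crv.of_smooth hdim
  have := isNoetherian k (X := X)
  induction m with
  | zero =>
    rintro B hB hd ⟨s, hs⟩
    have hO : FlatMod.IsFinLocFreeOfRank 1 (Coh.structureModule X) := rank_unit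
    have hBr : FlatMod.IsFinLocFreeOfRank 1 B := rank_one_iff.mpr hB
    have hm := K704.InvHom.mono_of_ne_zero Fdesc.LocGen.isInvertible_structureModule hB s hs
    have h1 : dg k (Coh.structureModule X) = 0 := K708.SSH0.dg_structureModule
    have hi : IsIso s := isIso_of_mono C s (K707.Base.isCoh_of_rank hO) (K707.Base.isCoh_of_rank hBr)
      (by rw [rk_of_rank hO, rk_of_rank hBr]) (by rw [hd, h1]; simp)
    let t : B ⟶ Coh.structureModule X := inv s
    have ht : Mono t := inferInstanceAs (Mono (inv s))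
    exact ⟨t, ht⟩
  | succ m ih =>
    rintro B hB hd ⟨s, hs⟩
    obtain ⟨p, hp, s', hs'⟩ := exists_pt k hdim hB (by rw [hd]; positivity) s hs
    have hI := K704.Pt.isInvertible k X hdim p hp
    have hIr := rank_one_iff.mpr hI
    obtain ⟨β', hβ'⟩ := ih _ (Fdesc.LocGen.isInvertible_tensorMod hB hI)
      (by rw [dg_tensor_pt k hdim hB, hd]; push_cast; ring) ⟨s', hs'⟩
    obtain ⟨f, hf⟩ := H p hp
    have h1 : ¬ Subsingleton (Coh.HH X (CohB1.tensorMod (ClSub.idealMod (pt p hp)) Q) 0) := fun h =>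
      hf ((K708.HomH0.forall_hom_eq_zero_iff M Q (ClSub.idealMod (pt p hp))).mpr h f)
    rw [← K708.HomH0.forall_unit_hom_eq_zero_iff] at h1
    push Not at h1
    obtain ⟨ψ, hψ⟩ := h1
    have hIQ : FlatMod.IsFinLocFree (CohB1.tensorMod (ClSub.idealMod (pt p hp)) Q) :=
      vb_tensor (isFinLocFree_of_rank hIr) hQ
    have hψm : Mono ψ := K708.SSH0.mono_of_rank_one C rank_unit hIQ ψ hψ
    let ψ' : 𝟙_ X.Modules ⟶ ClSub.idealMod (pt p hp) ⊗ Q := ψ
    have hψ' : Mono ψ' := hψm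
    have m1 : Mono (B ◁ ψ') := K708.Dual.mono_whiskerLeft (vb_of_inv hB) ψ'
    let β'' : B ⊗ ClSub.idealMod (pt p hp) ⟶ tp Q m := β'
    have hβ'' : Mono β'' := hβ'
    have m2 : Mono (β'' ▷ Q) := K708.Dual.mono_whiskerRight hQ β''
    let t : B ⟶ tp Q m ⊗ Q := (ρ_ B).inv ≫ (B ◁ ψ') ≫ (α_ B _ Q).inv ≫ (β'' ▷ Q)
    have ht : Mono t := inferInstanceAs (Mono ((ρ_ B).inv ≫ (B ◁ ψ') ≫ (α_ B _ Q).inv ≫ (β'' ▷ Q)))
    exact ⟨t, ht⟩

end

end K658.TensPow
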