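import Groth.Agent.VBCurve.K658.Kern
import Groth.Agent.VBCurve.K658.TensPow
import Groth.Agent.VBCurve.K705.Setup
import Groth.Agent.VBCurve.K707.PairInv

/-!
# Bundles all of whose twists of degree `g - 1` have sections
-/

set_option autoImplicit false
universe u
open CategoryTheory CategoryTheory.Limits AlgebraicGeometry TopologicalSpace Opposite IsLocalRing

namespace K658.NoSec

open Groth.Agent MonoidalCategory K707.Base K707.Deg K707.Slope K707.Semi K704.Pt K704.Eval K704.HomK K658.EvGen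
open K707.TensL K319 K319.PicCD Groth.Agent.Grpsch.PicGrp
open Groth.Agent.Dix.PointIdeal Groth.Agent.VarietyA.DegRank
open scoped Groth.Agent.Dcoh.MonCat

/-- No twist of `F` by an invertible module of class `c` has nonzero sections. -/
def NoSec {X : Scheme.{u}} (F : X.Modules) (c : Additive (Pic X)) : Prop :=
  ∀ (N : X.Modules) (hN : PicF.IsInvertible N), Additive.ofMul (mk N hN) = c →
    ∀ s : Coh.structureModule X ⟶ CohB1.tensorMod F N, s = 0

section

variable {X : Scheme.{u}}

theorem forall_eq_zero_of_iso {A B : X.Modules} (e : A ≅ B) (h : ∀ s : Coh.structureModule X ⟶ A, s = 0)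
    (s : Coh.structureModule X ⟶ B) : s = 0 := by
  rw [← cancel_mono e.inv, h (s ≫ e.inv), zero_comp]

theorem noSec_iff (F : X.Modules) {N : X.Modules} (hN : PicF.IsInvertible N) :
    NoSec F (Additive.ofMul (mk N hN)) ↔ ∀ s : Coh.structureModule X ⟶ CohB1.tensorMod F N, s = 0 := by
  constructor
  · intro h
    exact h N hN rfl
  · intro h N' hN' hc
    obtain ⟨e⟩ := (mk_eq_iff hN' hN).mp (Additive.ofMul.injective hc)
    exact forall_eq_zero_of_iso (Ega2.Tens.mapTIso (Iso.refl F) e.symm) h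

end

variable (k : Type u) [Field k] {X : Scheme.{u}} [X.Over (Spec (CommRingCat.of k))]
  [IsIntegral X] [IsProper (X ↘ Spec (CommRingCat.of k))] [Smooth (X ↘ Spec (CommRingCat.of k))]
  [IsAlgClosed k] (hdim : topologicalKrullDim X = 1)

/-- The numerical data of the curve. -/
noncomputable abbrev Cd : CD (Additive (Pic X)) (Pts X) := cd k X (PicRoot.reg k X hdim)

theorem deg_cls {N : X.Modules} (hN : PicF.IsInvertible N) : (Cd k hdim).deg (Additive.ofMul (mk N hN)) = dg k N :=
  (K532.CurvePic.deg_mk k X hdim hN).trans (dg_of_rank k (rank_one_iff.mpr hN)).symm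

theorem h_cls {N : X.Modules} (hN : PicF.IsInvertible N) :
    (Cd k hdim).h (Additive.ofMul (mk N hN)) = Module.finrank k (Sec N) := by
  rw [finrank_hom]
  exact K532.CurvePic.h_mk k X 0 hN

theorem h_cls_ne_zero_iff {N : X.Modules} (hN : PicF.IsInvertible N) :
    (Cd k hdim).h (Additive.ofMul (mk N hN)) ≠ 0 ↔ ∃ s : Sec N, s ≠ 0 := by
  have hfin : Module.Finite k (Sec N) := finite_sec k (K707.Base.isCoh_of_rank (rank_one_iff.mpr hN))
  rw [h_cls]
  constructor
  · intro h
    by_contra hcon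
    push Not at hcon
    have : Subsingleton (Sec N) := ⟨fun a b => (hcon a).trans (hcon b).symm⟩
    exact h Module.finrank_zero_of_subsingleton
  · rintro ⟨s, hs⟩
    have : Nontrivial (Sec N) := ⟨⟨s, 0, hs⟩⟩
    exact (Module.finrank_pos (R := k)).ne'

theorem exists_rep (c : Additive (Pic X)) : ∃ (N : X.Modules) (hN : PicF.IsInvertible N),
    Additive.ofMul (mk N hN) = c := by
  obtain ⟨N, hN, h⟩ := exists_mk c.toMul
  exact ⟨N, hN, congrArg Additive.ofMul h.symm⟩

theorem cls_sub_pt {N : X.Modules} (hN : PicF.IsInvertible N) (P : Pts X) :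
    ∃ hI : PicF.IsInvertible (CohB1.tensorMod N (ClSub.idealMod (pt P.1 P.2))),
      Additive.ofMul (mk N hN) - (Cd k hdim).p P =
        Additive.ofMul (mk (CohB1.tensorMod N (ClSub.idealMod (pt P.1 P.2))) hI) := by
  have hI := K704.Pt.isInvertible k X hdim P.1 P.2
  refine ⟨Fdesc.LocGen.isInvertible_tensorMod hN hI, ?_⟩
  have h1 : (Cd k hdim).p P = - Additive.ofMul (mk (ClSub.idealMod (pt P.1 P.2)) hI) := by
    change Additive.ofMul (mk (ClSub.idealMod (K319.Setup.I X P.1 P.2)) _)⁻¹ = _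
    congr 3
  rw [h1, sub_neg_eq_add, ← mk_mul_mk hN hI]
  rfl

/-- Having no sections is a generic property. -/
theorem gen (h0 : Module.finrank k (Coh.HH X (Coh.structureModule X) 0) = 1) {F : X.Modules}
    (hF : FlatMod.IsFinLocFree F) : AbsIrr.Gen (Cd k hdim) (NoSec F) := by
  have := isNoetherian k (X := X)
  rintro c ⟨P, hP⟩
  obtain ⟨N, hN, rfl⟩ := exists_rep (X := X) c
  have hGr := isFinLocFreeOfRank_rk (vb_tensor hF (vb_of_inv hN))
  have key : ∀ P : Pts X, NoSec F (Additive.ofMul (mk N hN) - (Cd k hdim).p P) ↔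
      ∀ s ∈ Kp k (CohB1.tensorMod F N) P.1 P.2, s = 0 := by
    intro P
    obtain ⟨hI, h1⟩ := cls_sub_pt k hdim hN P
    rw [h1, noSec_iff F hI]
    have hm := mono_tw hGr P.1 P.2
    constructor
    · rintro h s ⟨t, rfl⟩
      have h2 : t = 0 := forall_eq_zero_of_iso (Ega2.Tens.assoc F N (ClSub.idealMod (pt P.1 P.2))).symm h t
      change t ≫ tw _ _ = 0
      rw [h2, zero_comp]
    · intro h
      refine forall_eq_zero_of_iso (Ega2.Tens.assoc F N (ClSub.idealMod (pt P.1 P.2))) fun t => ?_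
      have h2 := h (t ≫ tw (CohB1.tensorMod F N) (pt P.1 P.2)) ⟨t, rfl⟩
      rw [← cancel_mono (tw (CohB1.tensorMod F N) (pt P.1 P.2)), h2, zero_comp]
  rw [key] at hP
  obtain ⟨Z, hZ, hZ'⟩ := EvGen.main k hdim h0 hGr P.1 P.2 hP
  refine Set.Finite.subset (hZ.preimage (f := Subtype.val) Subtype.val_injective.injOn) ?_
  intro Q hQ
  by_contra hcon
  exact hQ ((key Q).mpr (hZ' Q.1 Q.2 hcon))

/-- All twists of degree `g - 1` have sections. -/
def HasSec (E : X.Modules) : Prop :=
  ∀ c : Additive (Pic X), (Cd k hdim).deg c = ((Cd k hdim).g : ℤ) - 1 → ¬ NoSec E c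

theorem noSec_ext {T : ShortComplex X.Modules} (hT : T.ShortExact) {c : Additive (Pic X)} (h1 : NoSec T.X₁ c)
    (h3 : NoSec T.X₃ c) : NoSec T.X₂ c := by
  intro N hN hc
  have hT' := K708.Dual.tensorRight_shortExact (vb_of_inv hN) hT
  have hm : Mono (T.map (tensorRight N)).f := hT'.mono_f
  intro s
  let s' : Coh.structureModule X ⟶ (T.map (tensorRight N)).X₂ := s
  have h4 : s' ≫ (T.map (tensorRight N)).g = 0 := h3 N hN hc _
  have h5 : hT'.exact.lift s' h4 = 0 := h1 N hN hc _
  have h6 := hT'.exact.lift_f s' h4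
  rw [h5, zero_comp] at h6
  exact h6.symm

theorem noSec_sub {A E : X.Modules} (i : A ⟶ E) [Mono i] {c : Additive (Pic X)} (h : NoSec E c) : NoSec A c := by
  intro N hN hc s
  have hm : Mono (i ▷ N) := K708.Dual.mono_whiskerRight (vb_of_inv hN) i
  let s' : Coh.structureModule X ⟶ A ⊗ N := s
  have h1 : s' ≫ (i ▷ N) = 0 := h N hN hc _
  exact (cancel_mono (i ▷ N)).mp (h1.trans zero_comp.symm)

end K658.NoSec
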